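import Groth.Agent.GModLib.Func
import Groth.Prelude
import Mathlib.LinearAlgebra.Dimension.Free
import Mathlib.RingTheory.TensorProduct.Free

/-!
# Linear representations of anti-affine groups
-/

set_option autoImplicit false
set_option linter.style.haveILetI false
set_option backward.isDefEq.respectTransparency false

universe u v

open CategoryTheory MonoidalCategory CartesianMonoidalCategory AlgebraicGeometry CoactBr
open scoped MonObj TensorProduct

noncomputable section

namespace GModLib

variable {k : Type u} [Field k] {G : Over (Spec (CommRingCat.of k))} [GrpObj G] {M : Type v} [AddCommGroup M] [Module k M]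

/-- A coefficient of a linear representation. -/
def coeff (m : VecGrp.GMod G M) (ℓ : M →ₗ[k] k) (v : M) (B : Type u) [CommRing B] [Algebra k B]
    (g : VecGrp.pt k B ⟶ G) : B :=
  TensorProduct.rid k B (ℓ.lTensor B (m.ρ B g (1 ⊗ₜ v)))

theorem coeff_map (m : VecGrp.GMod G M) (ℓ : M →ₗ[k] k) (v : M) {B B' : Type u} [CommRing B] [Algebra k B]
    [CommRing B'] [Algebra k B'] (φ : B →ₐ[k] B') (g : VecGrp.pt k B ⟶ G) :
    φ (coeff m ℓ v B g) = coeff m ℓ v B' (VecGrp.ptMap φ ≫ g) := by
  have hn := m.naturality φ g (1 ⊗ₜ v)
  rw [VecGrp.Wmap_tmul, map_one] at hn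
  rw [coeff, coeff, ← hn]
  generalize m.ρ B g (1 ⊗ₜ v) = z
  induction z using TensorProduct.induction_on with
  | zero => simp
  | add p q hp hq => simp only [map_add, hp, hq]
  | tmul b w => simp [map_smul]

/-- An anti-affine group acts trivially in every linear representation. -/
theorem ρ_eq_one [AntiAffLib.IsΓIso (toUnit G)] (m : VecGrp.GMod G M) (B : Type u) [CommRing B] [Algebra k B]
    (g : VecGrp.pt k B ⟶ G) : m.ρ B g = 1 := by
  let b := Module.Free.chooseBasis k M
  have h1 : ∀ v : M, m.ρ B g (1 ⊗ₜ v) = 1 ⊗ₜ v := by
    intro v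
    refine (Algebra.TensorProduct.basis B b).ext_elem fun i => ?_
    have hc := eq_const η[G] (coeff m (b.coord i) v) (fun φ g => coeff_map m _ v φ g) B g
    rw [show toUnit (VecGrp.pt k B) ≫ η[G] = 1 from (Hom.one_def ..).symm] at hc
    have e : ∀ x : B ⊗[k] M, (Algebra.TensorProduct.basis B b).repr x i =
        TensorProduct.rid k B ((b.coord i).lTensor B x) := by
      intro x
      induction x using TensorProduct.induction_on with
      | zero => simp
      | add p q hp hq => simp only [map_add, Finsupp.add_apply, hp, hq]
      | tmul c w => simp [Algebra.smul_def, mul_comm]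
    rw [e, e]
    simpa [coeff] using hc
  refine LinearEquiv.ext fun x => ?_
  induction x using TensorProduct.induction_on with
  | zero => simp
  | add p q hp hq => simp only [map_add, hp, hq]
  | tmul c w =>
    rw [show c ⊗ₜ[k] w = c • ((1 : B) ⊗ₜ[k] w) by rw [TensorProduct.smul_tmul', smul_eq_mul, _root_.mul_one],
      map_smul, map_smul, h1]
    rfl

end GModLib
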