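import Groth.Agent.AntiAffLib.GLn
import Groth.Agent.AntiAffLib.Basics2
import Groth.Prelude

/-!
# Functions from natural families on affine points
-/

set_option autoImplicit false
set_option linter.style.haveILetI false
set_option backward.isDefEq.respectTransparency false

universe u v

open CategoryTheory CategoryTheory.Limits MonoidalCategory CartesianMonoidalCategory AlgebraicGeometry CoactBr
open scoped MonObj TensorProduct

noncomputable section

namespace GModLib

variable {k : Type u} [Field k] {G : Over (Spec (CommRingCat.of k))}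

/-- The function with given values. -/
def val {B : Type u} [CommRing B] [Algebra k B] (c : B) : VecGrp.pt k B ⟶ sp k (Polynomial k) :=
  pt (Polynomial.aeval c)

theorem val_map {B B' : Type u} [CommRing B] [Algebra k B] [CommRing B'] [Algebra k B'] (φ : B →ₐ[k] B') (c : B) :
    VecGrp.ptMap φ ≫ val c = val (φ c) := by
  refine Over.OverMorphism.ext ?_
  show Spec.map (CommRingCat.ofHom φ.toRingHom) ≫ Spec.map (CommRingCat.ofHom (Polynomial.aeval (R := k) c).toRingHom) =
    Spec.map (CommRingCat.ofHom (Polynomial.aeval (R := k) (φ c)).toRingHom)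
  rw [← Spec.map_comp, ← CommRingCat.ofHom_comp]
  congr 2
  exact congrArg AlgHom.toRingHom (Polynomial.algHom_ext (f := φ.comp (Polynomial.aeval c)) (g := Polynomial.aeval (φ c)) (by simp))

theorem val_injective {B : Type u} [CommRing B] [Algebra k B] : Function.Injective (val (k := k) (B := B)) := by
  intro a b h
  have := congrArg (fun f : Polynomial k →ₐ[k] B => f Polynomial.X) (pt_injective h)
  simpa using this

/-- An affine open as an affine point. -/
theorem exists_affine_point (W : Scheme.{u}) [IsAffine W] (p : W ⟶ Spec (CommRingCat.of k)) :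
    ∃ (B : Type u) (_ : CommRing B) (_ : Algebra k B), Nonempty (VecGrp.pt k B ≅ Over.mk p) := by
  letI : Algebra k Γ(W, ⊤) := (Spec.preimage (W.isoSpec.inv ≫ p)).hom.toAlgebra
  exact ⟨Γ(W, ⊤), inferInstance, inferInstance, ⟨Over.isoMk W.isoSpec.symm (Spec.map_preimage _).symm⟩⟩

/-- A natural family of values on affine points comes from a morphism to the affine line. -/
theorem exists_hom (c : ∀ (B : Type u) [CommRing B] [Algebra k B], (VecGrp.pt k B ⟶ G) → B)
    (hc : ∀ {B B' : Type u} [CommRing B] [Algebra k B] [CommRing B'] [Algebra k B'] (φ : B →ₐ[k] B')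
      (g : VecGrp.pt k B ⟶ G), φ (c B g) = c B' (VecGrp.ptMap φ ≫ g)) :
    ∃ F : G ⟶ sp k (Polynomial k), ∀ (B : Type u) [CommRing B] [Algebra k B] (g : VecGrp.pt k B ⟶ G),
      g ≫ F = val (c B g) := by
  have hmap : ∀ {B B' : Type u} [CommRing B] [Algebra k B] [CommRing B'] [Algebra k B']
      (h : VecGrp.pt k B' ⟶ VecGrp.pt k B), ∃ φ : B →ₐ[k] B', h = VecGrp.ptMap φ := by
    intro B B' _ _ _ _ h
    obtain ⟨φ, hφ⟩ := Groth.Agent.DiagRep.exists_pt (R := k) (A := B) (C := B') h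
    exact ⟨φ, hφ⟩
  let 𝒰 := G.left.affineCover
  have hU : ∀ i, ∃ (B : Type u) (_ : CommRing B) (_ : Algebra k B),
      Nonempty (VecGrp.pt k B ≅ Over.mk (𝒰.f i ≫ G.hom)) := fun i => exists_affine_point _ _
  choose B hB₁ hB₂ hB₃ using hU
  let e := fun i => Classical.choice (hB₃ i)
  let u := fun i => (e i).hom ≫ (Over.homMk (𝒰.f i) rfl : Over.mk (𝒰.f i ≫ G.hom) ⟶ G)
  let loc : ∀ i, Over.mk (𝒰.f i ≫ G.hom) ⟶ sp k (Polynomial k) := fun i => (e i).inv ≫ val (c (B i) (u i))
  have key : ∀ (i : 𝒰.I₀) (D : Type u) [CommRing D] [Algebra k D] (g : VecGrp.pt k D ⟶ G)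
      (l : VecGrp.pt k D ⟶ Over.mk (𝒰.f i ≫ G.hom)), l.left ≫ 𝒰.f i = g.left → l ≫ loc i = val (c D g) := by
    intro i D _ _ g l hl
    obtain ⟨φ, hφ⟩ := hmap (l ≫ (e i).inv)
    have hg : VecGrp.ptMap φ ≫ u i = g := by
      rw [← hφ]
      simp only [u, Category.assoc, Iso.inv_hom_id_assoc]
      exact Over.OverMorphism.ext hl
    show l ≫ (e i).inv ≫ _ = _
    rw [← Category.assoc, hφ, val_map, hc, hg]
  have hcompat : ∀ i j, pullback.fst (𝒰.f i) (𝒰.f j) ≫ (loc i).left = pullback.snd (𝒰.f i) (𝒰.f j) ≫ (loc j).left := by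
    intro i j
    refine (pullback (𝒰.f i) (𝒰.f j)).affineCover.hom_ext _ _ fun m => ?_
    obtain ⟨D, _, _, ⟨d⟩⟩ := exists_affine_point
      ((pullback (𝒰.f i) (𝒰.f j)).affineCover.X m)
      ((pullback (𝒰.f i) (𝒰.f j)).affineCover.f m ≫ pullback.fst _ _ ≫ 𝒰.f i ≫ G.hom)
    let q : Over.mk ((pullback (𝒰.f i) (𝒰.f j)).affineCover.f m ≫ pullback.fst _ _ ≫ 𝒰.f i ≫ G.hom) ⟶
        Over.mk (𝒰.f i ≫ G.hom) :=
      Over.homMk ((pullback (𝒰.f i) (𝒰.f j)).affineCover.f m ≫ pullback.fst _ _) (Category.assoc _ _ _)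
    let q' : Over.mk ((pullback (𝒰.f i) (𝒰.f j)).affineCover.f m ≫ pullback.fst _ _ ≫ 𝒰.f i ≫ G.hom) ⟶
        Over.mk (𝒰.f j ≫ G.hom) :=
      Over.homMk ((pullback (𝒰.f i) (𝒰.f j)).affineCover.f m ≫ pullback.snd _ _) (by
        show (_ ≫ pullback.snd (𝒰.f i) (𝒰.f j)) ≫ 𝒰.f j ≫ G.hom = _
        rw [Category.assoc, ← pullback.condition_assoc]; rfl)
    let g : VecGrp.pt k D ⟶ G := d.hom ≫ q ≫ Over.homMk (𝒰.f i) rfl
    have h1 := key i D g (d.hom ≫ q) (by simp [g])
    have h2 := key j D g (d.hom ≫ q') (by simp [g, q, q', pullback.condition])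
    have h3 := h1.trans h2.symm
    rw [Category.assoc, Category.assoc, cancel_epi] at h3
    have h4 := congrArg CommaMorphism.left h3
    simpa [q, q'] using h4
  let Fl := 𝒰.glueMorphisms (fun i => (loc i).left) hcompat
  have hFl : ∀ i, 𝒰.f i ≫ Fl = (loc i).left := fun i => 𝒰.ι_glueMorphisms _ _ i
  let F : G ⟶ sp k (Polynomial k) := Over.homMk Fl (𝒰.hom_ext _ _ fun i => by
    rw [← Category.assoc, hFl]; exact Over.w (loc i))
  refine ⟨F, fun D _ _ g => Over.OverMorphism.ext ?_⟩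
  refine Scheme.Cover.hom_ext (𝒰.pullback₁ g.left) _ _ fun i => ?_
  refine (((𝒰.pullback₁ g.left).X i)).affineCover.hom_ext _ _ fun m => ?_
  let W := ((𝒰.pullback₁ g.left).X i).affineCover.X m
  let w : W ⟶ pullback g.left (𝒰.f i) := ((𝒰.pullback₁ g.left).X i).affineCover.f m
  obtain ⟨D', _, _, ⟨d⟩⟩ := exists_affine_point W (w ≫ pullback.fst _ _ ≫ Spec.map (CommRingCat.ofHom (algebraMap k D)))
  let a : Over.mk (w ≫ pullback.fst _ _ ≫ Spec.map (CommRingCat.ofHom (algebraMap k D))) ⟶ VecGrp.pt k D :=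
    Over.homMk (w ≫ pullback.fst _ _) (Category.assoc _ _ _)
  obtain ⟨φ, hφ⟩ := hmap (d.hom ≫ a)
  let b : Over.mk (w ≫ pullback.fst _ _ ≫ Spec.map (CommRingCat.ofHom (algebraMap k D))) ⟶ Over.mk (𝒰.f i ≫ G.hom) :=
    Over.homMk (w ≫ pullback.snd _ _) (by
      show (w ≫ pullback.snd g.left (𝒰.f i)) ≫ 𝒰.f i ≫ G.hom = _
      rw [Category.assoc, ← pullback.condition_assoc, Over.w g]; rfl)
  have h1 := key i D' (VecGrp.ptMap φ ≫ g) (d.hom ≫ b) (by
    rw [← hφ]; simp [a, b, pullback.condition])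
  rw [← hc, ← val_map, ← hφ, Category.assoc, Category.assoc, cancel_epi] at h1
  have h2 := congrArg CommaMorphism.left h1
  simp only [a, b, Over.comp_left, Over.homMk_left, Category.assoc] at h2
  show w ≫ pullback.fst g.left (𝒰.f i) ≫ g.left ≫ Fl = w ≫ pullback.fst g.left (𝒰.f i) ≫ _
  rw [pullback.condition_assoc, hFl, h2]

/-- Natural values on the points of an anti-affine scheme are constant. -/
theorem eq_const [AntiAffLib.IsΓIso (toUnit G)] (x : 𝟙_ (Over (Spec (CommRingCat.of k))) ⟶ G)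
    (c : ∀ (B : Type u) [CommRing B] [Algebra k B], (VecGrp.pt k B ⟶ G) → B)
    (hc : ∀ {B B' : Type u} [CommRing B] [Algebra k B] [CommRing B'] [Algebra k B'] (φ : B →ₐ[k] B')
      (g : VecGrp.pt k B ⟶ G), φ (c B g) = c B' (VecGrp.ptMap φ ≫ g))
    (B : Type u) [CommRing B] [Algebra k B] (g : VecGrp.pt k B ⟶ G) :
    c B g = c B (toUnit _ ≫ x) := by
  obtain ⟨F, hF⟩ := exists_hom c hc
  haveI : IsAffine (sp k (Polynomial k)).left := inferInstanceAs (IsAffine (Spec (CommRingCat.of (Polynomial k))))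
  refine val_injective (k := k) ?_
  rw [← hF, ← hF, AntiAffLib.eq_const F x, ← Category.assoc g, toUnit_unique (g ≫ toUnit G) (toUnit _),
    Category.assoc, ← Category.assoc x (toUnit G), toUnit_unique (x ≫ toUnit G) (𝟙 _), Category.id_comp]

end GModLib
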