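import Groth.Agent.GModLib.Func
import Groth.Agent.DiagRepLib.Coords
import Groth.Agent.S16480
import Groth.Agent.AntiAffLib.FixActs
import Groth.Prelude

/-!
# Groups all of whose linear representations are trivial
-/

set_option autoImplicit false
set_option linter.style.haveILetI false
set_option backward.isDefEq.respectTransparency false

universe u

open CategoryTheory MonoidalCategory CartesianMonoidalCategory AlgebraicGeometry CoactBr WithConv
open scoped MonObj TensorProduct Matrix

noncomputable section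

namespace GModLib

attribute [-instance] CategoryTheory.Hom.commGroup

variable {k : Type u} [Field k] {G : Over (Spec (CommRingCat.of k))} [GrpObj G] {n : ℕ}

/-- The standard action of a general linear matrix group on a base changed coordinate space. -/
def act (D : Type u) [CommRing D] [Algebra k D] :
    (Matrix (Fin n) (Fin n) D)ˣ →* (VecGrp.W k (Fin n → k) D ≃ₗ[D] VecGrp.W k (Fin n → k) D) :=
  (LinearMap.GeneralLinearGroup.generalLinearEquiv D (VecGrp.W k (Fin n → k) D)).toMonoidHom.comp
    (Units.map (Matrix.toLinAlgEquiv (Algebra.TensorProduct.basis D (Pi.basisFun k (Fin n)))).toMonoidHom)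

theorem act_basis (D : Type u) [CommRing D] [Algebra k D] (u : (Matrix (Fin n) (Fin n) D)ˣ) (j : Fin n) :
    act D u ((1 : D) ⊗ₜ[k] Pi.basisFun k (Fin n) j) = ∑ i, (u : Matrix (Fin n) (Fin n) D) i j ⊗ₜ[k] Pi.basisFun k (Fin n) i := by
  show Matrix.toLinAlgEquiv (Algebra.TensorProduct.basis D (Pi.basisFun k (Fin n))) (u : Matrix (Fin n) (Fin n) D) _ = _
  rw [show (1 : D) ⊗ₜ[k] Pi.basisFun k (Fin n) j = Algebra.TensorProduct.basis D (Pi.basisFun k (Fin n)) j from
    (Algebra.TensorProduct.basis_apply _ _).symm, Matrix.toLinAlgEquiv_self]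
  refine Finset.sum_congr rfl fun i _ => ?_
  rw [Algebra.TensorProduct.basis_apply, TensorProduct.smul_tmul', smul_eq_mul, _root_.mul_one]

theorem act_injective (D : Type u) [CommRing D] [Algebra k D] : Function.Injective (act (k := k) (n := n) D) := by
  intro u v h
  refine Units.ext ((Matrix.toLinAlgEquiv (Algebra.TensorProduct.basis D (Pi.basisFun k (Fin n)))).injective ?_)
  exact LinearMap.ext fun x => LinearEquiv.congr_fun h x

/-- A homomorphism to a general linear matrix group functor gives a linear representation. -/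
def ofMatrix (T : ∀ (D : Type u) [CommRing D] [Algebra k D], (VecGrp.pt k D ⟶ G) →* (Matrix (Fin n) (Fin n) D)ˣ)
    (hT : ∀ {D D' : Type u} [CommRing D] [Algebra k D] [CommRing D'] [Algebra k D'] (φ : D →ₐ[k] D')
      (g : VecGrp.pt k D ⟶ G), φ.mapMatrix (T D g : Matrix (Fin n) (Fin n) D) = T D' (VecGrp.ptMap φ ≫ g)) :
    VecGrp.GMod G (Fin n → k) where
  ρ D _ _ := (act D).comp (T D)
  naturality {D D'} _ _ _ _ φ g x := by
    have key : ∀ j, VecGrp.Wmap φ (act D (T D g) ((1 : D) ⊗ₜ[k] Pi.basisFun k (Fin n) j)) =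
        act D' (T D' (VecGrp.ptMap φ ≫ g)) ((1 : D') ⊗ₜ[k] Pi.basisFun k (Fin n) j) := by
      intro j
      rw [act_basis, act_basis, map_sum]
      refine Finset.sum_congr rfl fun i _ => ?_
      rw [VecGrp.Wmap_tmul, ← hT φ g]
      rfl
    simp only [MonoidHom.coe_comp, Function.comp_apply]
    rw [← (Algebra.TensorProduct.basis D (Pi.basisFun k (Fin n))).sum_repr x]
    simp only [map_sum, map_smul, VecGrp.Wmap_smul, Algebra.TensorProduct.basis_apply, VecGrp.Wmap_tmul, map_one, key]

/-- A group without nontrivial linear representations is anti-affine. -/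
theorem antiAff_of_gmod [LocallyOfFiniteType G.hom] [QuasiCompact G.hom]
    (h : ∀ (n : ℕ) (m : VecGrp.GMod G (Fin n → k)) (D : Type u) [CommRing D] [Algebra k D] (g : VecGrp.pt k D ⟶ G),
      m.ρ D g = 1) : AntiAffLib.IsΓIso (toUnit G) := by
  obtain ⟨B, _, _, v, hv, hv'⟩ := OrbitLib.ToAffine.exists_sp (AntiAffLib.hull G)
  haveI := hv; haveI := hv'
  haveI : IsIso v.hom.left := inferInstanceAs (IsIso ((Over.forget _).map v.hom))
  haveI : Algebra.FiniteType k B := by
    haveI : LocallyOfFiniteType (sp k B).hom := by rw [← Over.w v.hom]; infer_instance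
    have h' : LocallyOfFiniteType (Spec.map (CommRingCat.ofHom (algebraMap k B))) := this
    rw [HasRingHomProperty.Spec_iff (P := @LocallyOfFiniteType)] at h'
    exact RingHom.finiteType_algebraMap.mp h'
  obtain ⟨m, π, hπ⟩ := Groth.Agent.S16480.result k B
  let Xc := Groth.Agent.DiagRep.glnCoords k m
  let π' : CoordGrp.GLn m k →ₐ[k] B := π
  let r : G ⟶ sp k B := AntiAffLib.toHull G ≫ v.inv
  let β : ∀ (D : Type u) [CommRing D] [Algebra k D], (VecGrp.pt k D ⟶ G) →* WithConv (B →ₐ[k] D) := fun D _ _ =>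
    MonoidHom.comp (N := (sp k D ⟶ sp k B)) ((Spec.mapMulEquiv : WithConv (B →ₐ[k] D) ≃* (sp k D ⟶ sp k B)).symm.toMonoidHom)
      { toFun := fun g => g ≫ r, map_one' := MonObj.one_comp r, map_mul' := fun a b => MonObj.mul_comp a b r }
  have hβ : ∀ (D : Type u) [CommRing D] [Algebra k D] (g : VecGrp.pt k D ⟶ G), pt (β D g).ofConv = g ≫ r := fun D _ _ g =>
    (Spec.mapMulEquiv : WithConv (B →ₐ[k] D) ≃* (sp k D ⟶ sp k B)).apply_symm_apply (g ≫ r)
  have hπc : (Algebra.TensorProduct.map π' π').comp (Bialgebra.comulAlgHom k _) = (Bialgebra.comulAlgHom k B).comp π' :=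
    π.map_comp_comulAlgHom
  have hπ1 : (Bialgebra.counitAlgHom k B).comp π' = Bialgebra.counitAlgHom k _ := π.counitAlgHom_comp
  let X := π'.mapMatrix Xc.X
  have hX : ∀ (D : Type u) [CommRing D] [Algebra k D] (a b : WithConv (B →ₐ[k] D)),
      (a * b).ofConv.mapMatrix X = a.ofConv.mapMatrix X * b.ofConv.mapMatrix X := by
    intro D _ _ a b
    have e : (a * b).ofConv.comp π' = (toConv (a.ofConv.comp π') * toConv (b.ofConv.comp π')).ofConv := by
      apply AlgHom.ext; intro x
      show (a * b) (π' x) = (toConv (a.ofConv.comp π') * toConv (b.ofConv.comp π')) x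
      rw [AlgHom.convMul_apply, AlgHom.convMul_apply,
        show CoalgebraStruct.comul (R := k) (π' x) = Algebra.TensorProduct.map π' π' (CoalgebraStruct.comul (R := k) x)
          from (DFunLike.congr_fun hπc x).symm]
      generalize CoalgebraStruct.comul (R := k) x = z
      induction z using TensorProduct.induction_on with
      | zero => simp
      | add p q hp hq => simp only [map_add, hp, hq]
      | tmul p q => simp
    simp only [X]
    rw [← Groth.Agent.DiagRep.mapMatrix_comp, e, Xc.conv]
    rfl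
  have h1 : ∀ (D : Type u) [CommRing D] [Algebra k D], (1 : WithConv (B →ₐ[k] D)).ofConv.mapMatrix X = 1 := by
    intro D _ _
    show ((Algebra.ofId k D).comp (Bialgebra.counitAlgHom k B)).mapMatrix X = 1
    rw [Groth.Agent.DiagRep.mapMatrix_comp]
    simp only [X]
    rw [← Groth.Agent.DiagRep.mapMatrix_comp π', hπ1, Xc.counit, map_one]
  let mh : ∀ (D : Type u) [CommRing D] [Algebra k D], WithConv (B →ₐ[k] D) →* Matrix (Fin m) (Fin m) D := fun D _ _ =>
    { toFun := fun a => a.ofConv.mapMatrix X, map_one' := h1 D, map_mul' := hX D }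
  let T : ∀ (D : Type u) [CommRing D] [Algebra k D], (VecGrp.pt k D ⟶ G) →* (Matrix (Fin m) (Fin m) D)ˣ := fun D _ _ =>
    ((mh D).comp (β D)).toHomUnits
  let ρ := ofMatrix T (fun {D D'} _ _ _ _ φ g => by
    show φ.mapMatrix ((β D g).ofConv.mapMatrix X) = (β D' (VecGrp.ptMap φ ≫ g)).ofConv.mapMatrix X
    rw [← Groth.Agent.DiagRep.mapMatrix_comp]
    congr 2
    refine pt_injective ?_
    rw [hβ, pt_comp, hβ]
    exact (Category.assoc (VecGrp.ptMap φ) g r).symm)
  have key : ∀ (D : Type u) [CommRing D] [Algebra k D] (g : VecGrp.pt k D ⟶ G), g ≫ r = 1 := by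
    intro D _ _ g
    have hT : T D g = 1 := act_injective D (by rw [map_one]; exact h m ρ D g)
    have hmat : (β D g).ofConv.mapMatrix X = 1 := congrArg Units.val hT
    have hb : β D g = 1 := by
      refine WithConv.ext (AlgHom.ext fun x => ?_)
      obtain ⟨y, rfl⟩ := hπ x
      refine DFunLike.congr_fun (Xc.ext ((β D g).ofConv.comp π') ((1 : WithConv (B →ₐ[k] D)).ofConv.comp π') ?_) y
      rw [Groth.Agent.DiagRep.mapMatrix_comp, Groth.Agent.DiagRep.mapMatrix_comp]
      exact hmat.trans (h1 D).symm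
    rw [← hβ, hb]
    exact map_one Spec.mapMulEquiv
  have hr : r = 1 := by
    refine Over.OverMorphism.ext (G.left.affineCover.hom_ext _ _ fun i => ?_)
    obtain ⟨D, _, _, ⟨d⟩⟩ := exists_affine_point (G.left.affineCover.X i) (G.left.affineCover.f i ≫ G.hom)
    let j : Over.mk (G.left.affineCover.f i ≫ G.hom) ⟶ G := Over.homMk (G.left.affineCover.f i) rfl
    have h2 := key D (d.hom ≫ j)
    rw [Category.assoc] at h2
    have h3 : j ≫ r = j ≫ 1 := by rw [← cancel_epi d.hom, h2, MonObj.comp_one, MonObj.comp_one]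
    exact congrArg CommaMorphism.left h3
  have h4 : AntiAffLib.toHull G = 1 := by
    rw [← cancel_mono v.inv, show AntiAffLib.toHull G ≫ v.inv = 1 from hr, MonObj.one_comp]
  haveI : Nonempty G.left := AntiAffLib.nonempty_grp G
  refine AntiAffLib.antiAff_of_const η[AntiAffLib.hull G] ?_
  rw [h4, Hom.one_def]

end GModLib
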